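import Mathlib
import Cfsg.Agent.CycZGroup75.Basic
import Cfsg.Agent.S0205

/-!
Generalities for the reduction: factorisations with Z-group factors, the solvable radical, cyclic
transitive subgroups.
-/

set_option autoImplicit false
set_option linter.style.haveILetI false
set_option linter.unusedSectionVars false

namespace CfsgLib.CycZ75

open MulAction

universe u

variable {G : Type u} [Group G] [Finite G]

/-- A nonsolvable group has no Z-subgroup containing a Sylow 2-subgroup. -/
theorem false_of_zgroup_two (hns : ¬ Group.IsSolvable G) (K : Subgroup G) [IsZGroup K]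
    (h : (Nat.card G).factorization 2 = (Nat.card K).factorization 2) : False := by
  haveI : Fact (Nat.Prime 2) := ⟨Nat.prime_two⟩
  obtain ⟨Q⟩ : Nonempty (Sylow 2 K) := inferInstance
  let P : Sylow 2 G := Sylow.ofCard ((Q : Subgroup K).map K.subtype) (by
    rw [Subgroup.card_map_of_injective K.subtype_injective, Q.card_eq_multiplicity, h])
  have hcyc : IsCyclic ↥(P : Subgroup G) :=
    ((Q : Subgroup K).equivMapOfInjective K.subtype K.subtype_injective).isCyclic.1 inferInstance
  by_cases h2 : 2 ∣ Nat.card G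
  · obtain ⟨M, hM, hMo, k, hk⟩ := exists_complement_of_isCyclic P hcyc h2
    haveI := hM
    haveI : Group.IsSolvable M := Cfsg.Agent.S0205.result hMo
    haveI : Group.IsNilpotent (G ⧸ M) :=
      IsPGroup.isNilpotent (p := 2) (IsPGroup.of_card (n := k) hk)
    exact hns ((Group.isSolvable_iff_subgroup_quotient M).2 ⟨inferInstance, inferInstance⟩)
  · exact hns (Cfsg.Agent.S0205.result
      (Nat.not_even_iff_odd.1 fun e => h2 (even_iff_two_dvd.1 e)))

theorem card_prod_eq {A B : Subgroup G} (hprod : ∀ g : G, ∃ a ∈ A, ∃ b ∈ B, g = a * b)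
    (hdisj : A ⊓ B = ⊥) : Nat.card G = Nat.card A * Nat.card B := by
  rw [← Nat.card_prod]
  refine (Nat.card_eq_of_bijective (fun p : A × B => (p.1 : G) * p.2) ⟨?_, ?_⟩).symm
  · exact Subgroup.mul_injective_of_disjoint (disjoint_iff.2 hdisj)
  · intro g
    obtain ⟨a, ha, b, hb, rfl⟩ := hprod g
    exact ⟨(⟨a, ha⟩, ⟨b, hb⟩), rfl⟩

/-- Both factors of a nonsolvable product of disjoint Z-groups have even order. -/
theorem even_factors (hns : ¬ Group.IsSolvable G) {A B : Subgroup G} [IsZGroup A] [IsZGroup B]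
    (hprod : ∀ g : G, ∃ a ∈ A, ∃ b ∈ B, g = a * b) (hdisj : A ⊓ B = ⊥) :
    2 ∣ Nat.card A ∧ 2 ∣ Nat.card B := by
  have h := card_prod_eq hprod hdisj
  constructor <;> by_contra hodd
  · exact false_of_zgroup_two hns B (by
      rw [h, Nat.factorization_mul Nat.card_pos.ne' Nat.card_pos.ne', Finsupp.add_apply,
        Nat.factorization_eq_zero_of_not_dvd hodd, zero_add])
  · exact false_of_zgroup_two hns A (by
      rw [h, Nat.factorization_mul Nat.card_pos.ne' Nat.card_pos.ne', Finsupp.add_apply,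
        Nat.factorization_eq_zero_of_not_dvd hodd, add_zero])

/-- A Z-group embedded in a product of two of its images of even order is small. -/
theorem two_mul_card_le {K H₁ H₂ : Type*} [Group K] [Group H₁] [Group H₂] [Finite K] [Finite H₁]
    [Finite H₂] [IsZGroup K] (f : K →* H₁) (g : K →* H₂)
    (hinj : ∀ x, f x = 1 → g x = 1 → x = 1) (h1 : 2 ∣ Nat.card H₁) (h2 : 2 ∣ Nat.card H₂) :
    2 * Nat.card K ≤ Nat.card H₁ * Nat.card H₂ := by
  haveI : Fact (Nat.Prime 2) := ⟨Nat.prime_two⟩
  have hφ : Function.Injective (f.prod g) := by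
    rw [injective_iff_map_eq_one]
    intro x hx
    exact hinj x (congrArg Prod.fst hx) (congrArg Prod.snd hx)
  have hdvd := Subgroup.card_dvd_of_injective (f.prod g) hφ
  rw [Nat.card_prod] at hdvd
  obtain ⟨q, hq⟩ := hdvd
  have hq0 : q ≠ 0 := by
    rintro rfl
    rw [mul_zero] at hq
    have := Nat.mul_pos (Nat.card_pos (α := H₁)) (Nat.card_pos (α := H₂))
    omega
  have hq1 : q ≠ 1 := by
    rintro rfl
    rw [mul_one, ← Nat.card_prod] at hq
    have hsurj := ((Nat.bijective_iff_injective_and_card _).2 ⟨hφ, hq.symm⟩).2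
    obtain ⟨x, hx⟩ := exists_prime_orderOf_dvd_card' (G := H₁) 2 h1
    obtain ⟨y, hy⟩ := exists_prime_orderOf_dvd_card' (G := H₂) 2 h2
    obtain ⟨a, ha⟩ := hsurj (x, 1)
    obtain ⟨b, hb⟩ := hsurj (1, y)
    have hao : orderOf a = 2 := by
      rw [← orderOf_injective _ hφ, ha, Prod.orderOf_mk, hx, orderOf_one]; rfl
    have hbo : orderOf b = 2 := by
      rw [← orderOf_injective _ hφ, hb, Prod.orderOf_mk, hy, orderOf_one]; rfl
    have hab : a = b := eq_of_commute_of_isZGroup hao hbo (hφ (by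
      rw [map_mul, map_mul, ha, hb, Prod.mk_mul_mk, Prod.mk_mul_mk, mul_one, one_mul, one_mul,
        mul_one]))
    rw [hab, hb] at ha
    have hx1 : x = 1 := (congrArg Prod.fst ha).symm
    rw [hx1, orderOf_one] at hx
    omega
  rw [hq, mul_comm 2]
  exact Nat.mul_le_mul_left _ (by omega)

/-- The solvable radical exists. -/
theorem exists_radical (G : Type u) [Group G] [Finite G] : ∃ R : Subgroup G, R.Normal ∧
    Group.IsSolvable R ∧ ∀ N : Subgroup G, N.Normal → Group.IsSolvable N → N ≤ R := by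
  haveI : Fintype (Subgroup G) := Fintype.ofFinite _
  classical
  obtain ⟨R, ⟨hR, hRs⟩, hmax⟩ :=
    (Set.toFinite {N : Subgroup G | N.Normal ∧ Group.IsSolvable N}).exists_maximal
      ⟨⊥, inferInstance, inferInstance⟩
  refine ⟨R, hR, hRs, fun N hN hNs => ?_⟩
  have hsol : Group.IsSolvable ↥(N ⊔ R) := by
    let f : ↥(N ⊔ R) →* G ⧸ R := (QuotientGroup.mk' R).comp (N ⊔ R).subtype
    let g : ↥N →* G ⧸ R := (QuotientGroup.mk' R).comp N.subtype
    have hrange : f.range = g.range := by
      simp only [f, g, MonoidHom.range_comp, Subgroup.range_subtype, Subgroup.map_sup,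
        QuotientGroup.map_mk'_self, sup_bot_eq]
    haveI : Group.IsSolvable ↥g.range := Group.isSolvable_of_surjective g.rangeRestrict_surjective
    haveI : Group.IsSolvable ↥f.range := hrange ▸ this
    refine Group.isSolvable_of_ker_le_range (Subgroup.inclusion (le_sup_right : R ≤ N ⊔ R))
      f.rangeRestrict ?_
    intro x hx
    rw [MonoidHom.ker_rangeRestrict, MonoidHom.mem_ker] at hx
    exact ⟨⟨x, (QuotientGroup.eq_one_iff _).1 hx⟩, rfl⟩
  exact (le_sup_left : N ≤ N ⊔ R).trans (hmax ⟨Subgroup.sup_normal N R, hsol⟩ le_sup_right)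

/-- Modulo the radical there is no solvable normal subgroup. -/
theorem radical_quotient {R : Subgroup G} [R.Normal] (hRs : Group.IsSolvable R)
    (hmax : ∀ N : Subgroup G, N.Normal → Group.IsSolvable N → N ≤ R) (N : Subgroup (G ⧸ R))
    (hN : N.Normal) (hNs : Group.IsSolvable N) : N = ⊥ := by
  let K : Subgroup G := N.comap (QuotientGroup.mk' R)
  have hK : Group.IsSolvable K := by
    let f : K →* N := ((QuotientGroup.mk' R).comp K.subtype).codRestrict N fun z => z.2
    refine Group.isSolvable_of_ker_le_range (Subgroup.inclusion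
      (show R ≤ K from fun z hz => by
        change (QuotientGroup.mk' R) z ∈ N
        rw [QuotientGroup.mk'_apply, (QuotientGroup.eq_one_iff z).2 hz]
        exact N.one_mem)) f ?_
    intro x hx
    have h1 : ((x : G) : G ⧸ R) = 1 := congrArg Subtype.val (MonoidHom.mem_ker.1 hx)
    exact ⟨⟨x, (QuotientGroup.eq_one_iff _).1 h1⟩, rfl⟩
  have hle := hmax K (hN.comap _) hK
  rw [eq_bot_iff]
  intro q hq
  obtain ⟨z, rfl⟩ := QuotientGroup.mk_surjective q
  exact Subgroup.mem_bot.2 ((QuotientGroup.eq_one_iff z).2 (hle hq))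

/-- A cyclic group acting freely and transitively has a semiregular 2-part. -/
theorem exists_semi {Ω : Type*} [MulAction G Ω] [Finite Ω] [Nonempty Ω] {A : Subgroup G}
    (hA : IsCyclic A) (htrans : ∀ x y : Ω, ∃ a ∈ A, a • x = y)
    (hfree : ∀ a ∈ A, ∀ x : Ω, a • x = x → a = 1) :
    Nat.card A = Nat.card Ω ∧ ∃ a : G, orderOf a = 2 ^ (Nat.card Ω).factorization 2 ∧
      ∀ (i : ℕ) (x : Ω), a ^ i • x = x → a ^ i = 1 := by
  obtain ⟨x₀⟩ := (inferInstance : Nonempty Ω)
  have hcard : Nat.card A = Nat.card Ω := by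
    refine Nat.card_eq_of_bijective (fun a : A => (a : G) • x₀) ⟨fun a b e => ?_, fun y => ?_⟩
    · have h := hfree ((b : G)⁻¹ * a) (mul_mem (inv_mem b.2) a.2) x₀
        (by rw [mul_smul]; exact inv_smul_eq_iff.2 e)
      exact Subtype.ext (inv_mul_eq_one.1 h).symm
    · obtain ⟨a, ha, h⟩ := htrans x₀ y
      exact ⟨⟨a, ha⟩, h⟩
  refine ⟨hcard, ?_⟩
  obtain ⟨g, hg⟩ := hA.exists_generator
  have hord : orderOf (g : G) = Nat.card Ω := by
    rw [Subgroup.orderOf_coe, orderOf_eq_card_of_forall_mem_zpowers hg, hcard]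
  have hne : Nat.card Ω ≠ 0 := Nat.card_pos.ne'
  refine ⟨(g : G) ^ (Nat.card Ω / 2 ^ (Nat.card Ω).factorization 2), ?_, fun i x hx => ?_⟩
  · rw [orderOf_pow_of_dvd ?_ ?_, hord, Nat.div_div_self (Nat.ordProj_dvd _ 2) hne]
    · exact (Nat.ordCompl_pos 2 hne).ne'
    · rw [hord]
      exact Nat.ordCompl_dvd _ 2
  · exact hfree _ (pow_mem (pow_mem g.2 _) _) x hx

/-- The centraliser-free form: a commutative transitive subgroup fixing a point is trivial. -/
theorem eq_one_of_fix {Ω : Type*} [MulAction G Ω] [FaithfulSMul G Ω] {A : Subgroup G}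
    (hA : IsCyclic A) (htrans : ∀ x y : Ω, ∃ a ∈ A, a • x = y) :
    ∀ a ∈ A, ∀ x : Ω, a • x = x → a = 1 := by
  intro a ha x hx
  refine FaithfulSMul.eq_of_smul_eq_smul (α := Ω) fun y => ?_
  obtain ⟨b, hb, rfl⟩ := htrans x y
  have e : a * b = b * a :=
    congrArg Subtype.val ((IsCyclic.commGroup (α := A)).mul_comm ⟨a, ha⟩ ⟨b, hb⟩)
  rw [one_smul, ← mul_smul, e, mul_smul, hx]

/-- In a transitive action, if one point stabiliser is a Z-group then so are all. -/
theorem isZGroup_stabilizers {Ω : Type*} [MulAction G Ω] [IsPretransitive G Ω] {x₀ : Ω}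
    (h : IsZGroup ↥(stabilizer G x₀)) (x : Ω) : IsZGroup ↥(stabilizer G x) := by
  obtain ⟨g, hg⟩ := exists_smul_eq G x₀ x
  exact IsZGroup.of_injective (G' := ↥(stabilizer G x₀))
    (f := (stabilizerEquivStabilizer (g := g) hg.symm).symm.toMonoidHom)
    (stabilizerEquivStabilizer (g := g) hg.symm).symm.injective

end CfsgLib.CycZ75
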