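import Mathlib
import Cfsg.Agent.CycZGroup75.Products
import Cfsg.Agent.CycZGroup75.Shape
import Cfsg.Agent.SRing54.Schur

/-!
Reduction of a factorisation `G = A B` (cyclic times Z-group) to the doubly transitive action on
the cosets of `B`.
-/

set_option autoImplicit false
set_option linter.style.haveILetI false
set_option linter.unusedSectionVars false

namespace CfsgLib.CycZ75

open MulAction
open scoped Pointwise

universe u

/-- The factorisation with trivial solvable radical. -/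
structure Fac {G : Type u} [Group G] (A B : Subgroup G) : Prop where
  cyc : IsCyclic A
  zg : IsZGroup B
  prod : ∀ g : G, ∃ a ∈ A, ∃ b ∈ B, g = a * b
  ns : ¬ Group.IsSolvable G
  rad : ∀ N : Subgroup G, N.Normal → Group.IsSolvable N → N = ⊥

namespace Fac

variable {G : Type u} [Group G] [Finite G] {A B : Subgroup G}

theorem core_eq_bot (h : Fac A B) : B.normalCore = ⊥ := by
  haveI := h.zg
  haveI : IsZGroup ↥B.normalCore :=
    IsZGroup.of_injective (G' := ↥B) (f := Subgroup.inclusion B.normalCore_le)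
      (Subgroup.inclusion_injective _)
  exact h.rad _ inferInstance inferInstance

theorem faithful (h : Fac A B) : FaithfulSMul G (G ⧸ B) := by
  refine ⟨fun {g g'} e => ?_⟩
  have h1 : g'⁻¹ * g ∈ (toPermHom G (G ⧸ B)).ker := MonoidHom.mem_ker.2 (Equiv.ext fun q => by
    change (g'⁻¹ * g) • q = q
    rw [mul_smul, e q, inv_smul_smul])
  rw [← Subgroup.normalCore_eq_ker, h.core_eq_bot, Subgroup.mem_bot, inv_mul_eq_one] at h1
  exact h1.symm

theorem trans_A (h : Fac A B) (x y : G ⧸ B) : ∃ a ∈ A, a • x = y := by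
  have key : ∀ z : G ⧸ B, ∃ a ∈ A, a • ((1 : G) : G ⧸ B) = z := fun z => by
    obtain ⟨g, rfl⟩ := QuotientGroup.mk_surjective z
    obtain ⟨a, ha, b, hb, rfl⟩ := h.prod g
    refine ⟨a, ha, ?_⟩
    rw [Quotient.smul_mk, smul_eq_mul, mul_one, QuotientGroup.eq]
    simpa using hb
  obtain ⟨a, ha, rfl⟩ := key x
  obtain ⟨a', ha', rfl⟩ := key y
  exact ⟨a' * a⁻¹, mul_mem ha' (inv_mem ha), by rw [mul_smul, inv_smul_smul]⟩

theorem disj (h : Fac A B) : A ⊓ B = ⊥ := by
  haveI := h.faithful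
  rw [eq_bot_iff]
  intro z hz
  obtain ⟨hzA, hzB⟩ := Subgroup.mem_inf.1 hz
  refine Subgroup.mem_bot.2 (eq_one_of_fix h.cyc h.trans_A z hzA ((1 : G) : G ⧸ B) ?_)
  rw [Quotient.smul_mk, smul_eq_mul, mul_one, QuotientGroup.eq, mul_one]
  exact inv_mem hzB

theorem even (h : Fac A B) : 2 ∣ Nat.card A ∧ 2 ∣ Nat.card B := by
  haveI := h.cyc
  haveI := h.zg
  exact even_factors h.ns h.prod h.disj

/-- If `B` is maximal then the coset action is the projective line. -/
theorem shape_of_coatom (h : Fac A B) (hmax : IsCoatom B) : ∃ p, Shape G (G ⧸ B) p := by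
  haveI := h.cyc
  haveI := h.zg
  haveI := h.faithful
  obtain ⟨hcard, a, ha, hsemi⟩ := exists_semi h.cyc h.trans_A (eq_one_of_fix h.cyc h.trans_A)
  have hev : Even (Nat.card (G ⧸ B)) := even_iff_two_dvd.2 (hcard ▸ h.even.1)
  have hpos : 0 < Nat.card (G ⧸ B) := Nat.card_pos
  have h2 : 2 ≤ Nat.card (G ⧸ B) := by obtain ⟨r, hr⟩ := hev; omega
  haveI : Nontrivial (G ⧸ B) := Finite.one_lt_card_iff_nontrivial.1 (by omega)
  have hnp : ¬ (Nat.card (G ⧸ B)).Prime := fun hp => by
    have hn2 : Nat.card (G ⧸ B) = 2 := ((Nat.prime_dvd_prime_iff_eq Nat.prime_two hp).1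
      (even_iff_two_dvd.1 hev)).symm
    have hinj : Function.Injective (toPermHom G (G ⧸ B)) := fun g g' e =>
      FaithfulSMul.eq_of_smul_eq_smul (α := G ⧸ B) fun x =>
        congrArg (fun σ : Equiv.Perm (G ⧸ B) => σ x) e
    have hd := Subgroup.card_dvd_of_injective _ hinj
    rw [Nat.card_perm, hn2] at hd
    haveI : Fact (Nat.Prime 2) := ⟨Nat.prime_two⟩
    have hG2 : Nat.card G ∣ 2 := hd
    rcases (Nat.dvd_prime Nat.prime_two).1 hG2 with e | e
    · haveI : Subsingleton G := (Nat.card_eq_one_iff_unique.1 e).1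
      exact h.ns (Group.isSolvable_of_comm fun a b => Subsingleton.elim _ _)
    · haveI := isCyclic_of_prime_card e
      exact h.ns (Group.isSolvable_of_comm fun a b => IsCyclic.commGroup.mul_comm a b)
  have hprim : IsPreprimitive G (G ⧸ B) := by
    rw [← isCoatom_stabilizer_iff_preprimitive G ((1 : G) : G ⧸ B), stabilizer_quotient]
    exact hmax
  obtain ⟨g, hg⟩ := h.cyc.exists_generator
  have hper : MulAction.period (g : G) ((1 : G) : G ⧸ B) = Nat.card (G ⧸ B) := by
    have hord : orderOf (g : G) = Nat.card (G ⧸ B) := by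
      rw [Subgroup.orderOf_coe, orderOf_eq_card_of_forall_mem_zpowers hg, hcard]
    rw [← hord]
    apply Nat.dvd_antisymm
    · exact period_dvd_orderOf _ _
    · exact orderOf_dvd_of_pow_eq_one (eq_one_of_fix h.cyc h.trans_A _ (pow_mem g.2 _) _
        (pow_period_smul _ _))
  haveI : NeZero (Nat.card (G ⧸ B)) := ⟨by omega⟩
  have h2t := SRing54.two_trans_of_primitive (G := G) rfl h2 hnp (g : G) _ hper hprim
  haveI hB' : IsZGroup ↥(stabilizer G ((1 : G) : G ⧸ B)) := by
    rw [stabilizer_quotient]; exact h.zg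
  refine exists_shape (G := G) (Ω := G ⧸ B) ⟨h.faithful, fun x y z w hxy hzw => ?_, hev, h2,
    isZGroup_stabilizers hB', a, ha, hsemi⟩ h.ns
  exact (is_two_pretransitive_iff.1 h2t) hxy hzw

end Fac

/-- The conjugation action on the Sylow subgroups of a normal subgroup. -/
noncomputable def sylHom {G : Type u} [Group G] (N : Subgroup G) [N.Normal] (p : ℕ) :
    G →* Equiv.Perm (Sylow p N) :=
  (toPermHom (MulAut N) (Sylow p N)).comp MulAut.conjNormal

theorem mem_sylHom_smul {G : Type u} [Group G] {N : Subgroup G} [N.Normal] {p : ℕ} (g : G)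
    (P : Sylow p N) (z : N) :
    z ∈ ((sylHom N p g P : Sylow p N) : Subgroup N) ↔
      ∃ w ∈ (P : Subgroup N), g * (w : G) * g⁻¹ = z := by
  change z ∈ (MulAut.conjNormal g • (P : Subgroup N)) ↔ _
  constructor
  · rintro ⟨w, hw, rfl⟩
    exact ⟨w, hw, rfl⟩
  · rintro ⟨w, hw, e⟩
    exact ⟨w, hw, Subtype.ext e⟩

/-- The main step: `B` is maximal. -/
theorem main_aux : ∀ (n : ℕ) {G : Type u} [Group G] [Finite G] (A B : Subgroup G),
    Fac A B → Nat.card G = n → ∃ p, Shape G (G ⧸ B) p := by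
  intro n
  induction n using Nat.strong_induction_on with
  | _ n IH =>
  intro G _ _ A B h hn
  classical
  haveI := h.cyc
  haveI := h.zg
  haveI := h.faithful
  have hBtop : B ≠ ⊤ := fun e => by
    have hz : IsZGroup ↥(⊤ : Subgroup G) := e ▸ h.zg
    haveI := hz
    haveI : IsZGroup G := IsZGroup.of_surjective (f := (⊤ : Subgroup G).subtype)
      (fun g => ⟨⟨g, trivial⟩, rfl⟩)
    exact h.ns inferInstance
  by_cases hmax : IsCoatom B
  · exact h.shape_of_coatom hmax
  exfalso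
  obtain ⟨M, hBM, hMtop⟩ : ∃ M, B < M ∧ M ≠ ⊤ := by
    by_contra hcon
    push Not at hcon
    exact hmax ⟨hBtop, hcon⟩
  -- the core of `M`
  set N := M.normalCore with hN
  have hNM : N ≤ M := M.normalCore_le
  have hAM : ∀ z ∈ A, z ∈ M → z ∈ N := by
    intro z hz hzM g
    obtain ⟨a, ha, b, hb, hg⟩ := h.prod g⁻¹
    have e : a * z = z * a :=
      congrArg Subtype.val ((IsCyclic.commGroup (α := A)).mul_comm ⟨a, ha⟩ ⟨z, hz⟩)
    rw [show g = (a * b)⁻¹ by rw [← hg, inv_inv]]
    have e2 : (a * b)⁻¹ * z * ((a * b)⁻¹)⁻¹ = b⁻¹ * z * b := by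
      rw [inv_inv, mul_inv_rev, mul_assoc b⁻¹, mul_assoc b⁻¹, ← mul_assoc (a⁻¹ * z),
        mul_assoc a⁻¹, ← e, inv_mul_cancel_left, ← mul_assoc]
    rw [e2]
    exact mul_mem (mul_mem (inv_mem (hBM.le hb)) hzM) (hBM.le hb)
  have hMAB : ∀ z ∈ M, ∃ a ∈ A, a ∈ M ∧ ∃ b ∈ B, z = a * b := by
    intro z hz
    obtain ⟨a, ha, b, hb, rfl⟩ := h.prod z
    exact ⟨a, ha, by simpa using mul_mem hz (inv_mem (hBM.le hb)), b, hb, rfl⟩
  haveI hNn : N.Normal := M.normalCore_normal
  have hN1 : N ≠ ⊥ := by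
    intro e
    refine hBM.ne' (le_antisymm (fun z hz => ?_) hBM.le)
    obtain ⟨a, ha, haM, b, hb, rfl⟩ := hMAB z hz
    have := hAM a ha haM
    rw [e, Subgroup.mem_bot] at this
    rw [this, one_mul]
    exact hb
  have hnsol : ∀ K : Subgroup G, K.Normal → K ≠ ⊥ → ¬ Group.IsSolvable K := fun K hK h1 hs =>
    h1 (h.rad K hK hs)
  have hMns : ¬ Group.IsSolvable M := fun hs => by
    haveI := hs
    exact hnsol N hNn hN1 (Group.isSolvable_of_isSolvable_injective
      (Subgroup.inclusion_injective hNM))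
  obtain ⟨R, hR, hRs, hRmax⟩ := exists_radical ↥M
  haveI := hR
  haveI := hRs
  set π : ↥M →* ↥M ⧸ R := QuotientGroup.mk' R with hπ
  set A' : Subgroup (↥M ⧸ R) := (A.subgroupOf M).map π with hA'
  set B' : Subgroup (↥M ⧸ R) := (B.subgroupOf M).map π with hB'
  have hfac : Fac A' B' := by
    refine ⟨?_, ?_, fun q => ?_, fun hs => hMns ?_, radical_quotient hRs hRmax⟩
    · haveI : IsCyclic ↥(A.subgroupOf M) := isCyclic_of_injective
        ((M.subtype.comp (A.subgroupOf M).subtype).codRestrict A fun z => z.2)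
        (fun a b e => Subtype.ext (Subtype.ext (congrArg (fun x : A => (x : G)) e)))
      exact isCyclic_of_surjective (π.subgroupMap (A.subgroupOf M))
        (π.subgroupMap_surjective _)
    · haveI : IsZGroup ↥(B.subgroupOf M) := IsZGroup.of_injective (G' := B)
        (f := (M.subtype.comp (B.subgroupOf M).subtype).codRestrict B fun z => z.2)
        (fun a b e => Subtype.ext (Subtype.ext (congrArg (fun x : B => (x : G)) e)))
      exact IsZGroup.of_surjective (π.subgroupMap_surjective (B.subgroupOf M))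
    · obtain ⟨z, rfl⟩ := QuotientGroup.mk_surjective q
      obtain ⟨a, ha, haM, b, hb, e⟩ := hMAB z z.2
      refine ⟨π ⟨a, haM⟩, Subgroup.mem_map_of_mem π (show (⟨a, haM⟩ : M) ∈ A.subgroupOf M from ha),
        π ⟨b, hBM.le hb⟩,
        Subgroup.mem_map_of_mem π (show (⟨b, hBM.le hb⟩ : M) ∈ B.subgroupOf M from hb), ?_⟩
      rw [← map_mul]
      exact congrArg π (Subtype.ext e)
    · haveI := hs
      exact (Group.isSolvable_iff_subgroup_quotient R).2 ⟨inferInstance, inferInstance⟩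
  have hlt : Nat.card (↥M ⧸ R) < n := by
    rw [← hn]
    refine lt_of_le_of_lt ?_ (lt_of_le_of_ne (Nat.le_of_dvd Nat.card_pos M.card_subgroup_dvd_card)
      fun e => hMtop (Subgroup.eq_top_of_card_eq M e))
    exact Nat.card_le_card_of_surjective π (QuotientGroup.mk'_surjective R)
  obtain ⟨p, hS⟩ := IH _ hlt A' B' hfac rfl
  haveI := Fact.mk hS.prime
  -- `N` embeds
  have hNR : ∀ z ∈ N, ∀ hz : z ∈ M, π ⟨z, hz⟩ = 1 → z = 1 := by
    intro z hzN hz h1
    obtain ⟨RN, hRN, hRNs, hRNmax⟩ := exists_radical ↥N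
    have hle : (R.comap (Subgroup.inclusion hNM)) ≤ RN := by
      refine hRNmax _ (hR.comap _) ?_
      exact Group.isSolvable_of_isSolvable_injective
        (f := ((Subgroup.inclusion hNM).comp (R.comap (Subgroup.inclusion hNM)).subtype).codRestrict R
          fun w => w.2)
        (fun a b e => Subtype.ext (Subgroup.inclusion_injective hNM
          (congrArg (fun x : R => (x : M)) e)))
    have hnorm : (RN.map N.subtype).Normal := by
      refine ⟨fun w hw g => ?_⟩
      obtain ⟨w, hw, rfl⟩ := hw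
      have hsol : Group.IsSolvable ↥(RN.map (MulAut.conjNormal g : MulAut N).toMonoidHom) :=
        haveI := hRNs
        Group.isSolvable_of_surjective (MonoidHom.subgroupMap_surjective _ RN)
      exact ⟨_, hRNmax _ (hRN.map _ (MulAut.conjNormal g : MulAut N).surjective) hsol
        ⟨w, hw, rfl⟩, rfl⟩
    have hbot : RN.map N.subtype = ⊥ := h.rad _ hnorm
      (haveI := hRNs; Group.isSolvable_of_surjective (MonoidHom.subgroupMap_surjective _ RN))
    have h2 : (⟨z, hzN⟩ : N) ∈ RN := hle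
      (show Subgroup.inclusion hNM ⟨z, hzN⟩ ∈ R from (QuotientGroup.eq_one_iff _).1 h1)
    have h3 : z ∈ RN.map N.subtype := ⟨_, h2, rfl⟩
    rwa [hbot, Subgroup.mem_bot] at h3
  let e : ↥N →* ↥M ⧸ R := π.comp (Subgroup.inclusion hNM)
  have he : Function.Injective e := by
    rw [injective_iff_map_eq_one]
    exact fun z hz => Subtype.ext (hNR z z.2 _ hz)
  set Y : Subgroup (↥M ⧸ R) := e.range with hY
  have hYK : ∀ K : Subgroup G, K.Normal → K ≤ N → K ≠ ⊥ →
      ((K.subgroupOf N).map e).Normal ∧ ¬ Group.IsSolvable ↥((K.subgroupOf N).map e) := by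
    intro K hK hKN hK1
    refine ⟨⟨fun w hw q => ?_⟩, fun hs => hnsol K hK hK1 ?_⟩
    · obtain ⟨w, hw, rfl⟩ := hw
      obtain ⟨g, rfl⟩ := QuotientGroup.mk_surjective q
      have hmem : (g : G) * (w : G) * (g : G)⁻¹ ∈ K := hK.conj_mem _ hw g
      refine ⟨⟨_, hKN hmem⟩, hmem, ?_⟩
      change π (Subgroup.inclusion hNM ⟨_, hKN hmem⟩) = π g * π (Subgroup.inclusion hNM w) * (π g)⁻¹
      rw [← map_mul, ← map_inv, ← map_mul]
      rfl
    · haveI := hs
      refine Group.isSolvable_of_isSolvable_injective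
        (f := (e.subgroupMap (K.subgroupOf N)).comp
          ((Subgroup.inclusion hKN).codRestrict (K.subgroupOf N) fun z => z.2)) ?_
      intro a b hab
      have h1 := he (congrArg (fun x : ↥((K.subgroupOf N).map e) => (x : ↥M ⧸ R)) hab)
      exact Subtype.ext (congrArg (fun x : N => (x : G)) h1)
  have hYn : Y.Normal ∧ ¬ Group.IsSolvable Y := by
    have h1 := hYK N hNn le_rfl hN1
    rwa [Subgroup.subgroupOf_self, ← MonoidHom.range_eq_map] at h1
  obtain ⟨hYidx, hYsyl, hYP⟩ := hS.normal_sub Y hYn.1 hYn.2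
  let eY : N ≃* Y := MonoidHom.ofInjective he
  have hcardN : Nat.card N = Nat.card Y := Nat.card_congr eY.toEquiv
  have hp2 : p ≠ 2 := fun e => by have := hS.five; omega
  have hfacQ : ∀ K : Subgroup (↥M ⧸ R), K.index ≤ 2 → (Nat.card K).factorization p = 1 := by
    intro K hK
    have h1 := K.card_mul_index
    have hpos : 0 < K.index := Nat.pos_of_ne_zero Subgroup.index_ne_zero_of_finite
    have h2 : (Nat.card (↥M ⧸ R)).factorization p = 1 := by
      have hp := hS.prime
      rw [hS.cardG, mul_comm (p + 1) p, mul_assoc, Nat.factorization_mul hp.ne_zero (by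
        have := hp.two_le
        exact Nat.mul_ne_zero (by omega) (by omega)), Finsupp.add_apply, hp.factorization_self,
        Nat.factorization_eq_zero_of_not_dvd]
      rw [hp.dvd_mul]
      have := hS.five
      rintro (h | h) <;> obtain ⟨q, hq⟩ := h
      · rcases (show q = 0 ∨ q = 1 ∨ 2 ≤ q by omega) with rfl | rfl | hq2
        · omega
        · omega
        · have := Nat.mul_le_mul_left p hq2
          omega
      · rcases Nat.eq_zero_or_pos q with rfl | hq0
        · omega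
        · have := Nat.le_mul_of_pos_right p hq0
          omega
    rw [← h1, Nat.factorization_mul Nat.card_pos.ne' hpos.ne', Finsupp.add_apply,
      Nat.factorization_eq_zero_of_not_dvd (n := K.index) (fun hd => by
        have := Nat.le_of_dvd hpos hd
        have := hS.five
        omega), add_zero] at h2
    exact h2
  have hsylN : Nat.card (Sylow p N) = p + 1 := by
    rw [← hYsyl]
    refine Nat.card_eq_of_bijective (fun P : Sylow p N => P.mapSurjective eY.surjective)
      ⟨fun P Q hPQ => ?_, Sylow.mapSurjective_surjective eY.surjective p⟩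
    have h1 := congrArg (fun S : Sylow p Y => (S : Subgroup Y)) hPQ
    simp only [Sylow.coe_mapSurjective] at h1
    exact Sylow.ext (Subgroup.map_injective eY.injective h1)
  obtain ⟨P, hPY, hPcard, hPnorm⟩ := hYP ((1 : ↥M ⧸ R) : (↥M ⧸ R) ⧸ B')
  let P₀ : Sylow p N := Sylow.ofCard (P.comap e) (by
    have h1 : Nat.card ↥(P.comap e) = Nat.card P := by
      rw [← Subgroup.card_map_of_injective he, Subgroup.map_comap_eq_self]
      exact hPY
    rw [h1, hPcard, hcardN, hfacQ Y hYidx, pow_one])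
  have hP₀ : ∀ w : N, w ∈ (P₀ : Subgroup N) ↔ e w ∈ P := fun w => Iff.rfl
  set ψ := sylHom N p with hψ
  have hψB : ∀ b ∈ B, ψ b P₀ = P₀ := by
    intro b hb
    have hbst : π ⟨b, hBM.le hb⟩ ∈ stabilizer (↥M ⧸ R) ((1 : ↥M ⧸ R) : (↥M ⧸ R) ⧸ B') := by
      rw [stabilizer_quotient]
      exact Subgroup.mem_map_of_mem π (show (⟨b, hBM.le hb⟩ : M) ∈ B.subgroupOf M from hb)
    refine Sylow.ext (Subgroup.eq_of_le_of_card_ge (fun z hz => ?_) ?_)
    · obtain ⟨w, hw, hwz⟩ := (mem_sylHom_smul b P₀ z).1 hz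
      rw [hP₀]
      have h1 := hPnorm _ hbst _ ((hP₀ w).1 hw)
      convert h1 using 1
      change π (Subgroup.inclusion hNM z) = π ⟨b, hBM.le hb⟩ * π (Subgroup.inclusion hNM w) *
        (π ⟨b, hBM.le hb⟩)⁻¹
      rw [← map_mul, ← map_inv, ← map_mul]
      exact congrArg π (Subtype.ext hwz.symm)
    · rw [Sylow.card_eq_multiplicity, Sylow.card_eq_multiplicity]
  have htransN : ∀ Q : Sylow p N, ∃ z ∈ N, ψ z P₀ = Q := by
    intro Q
    obtain ⟨g, rfl⟩ := exists_smul_eq N P₀ Q
    refine ⟨g, g.2, Sylow.ext ?_⟩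
    ext z
    rw [mem_sylHom_smul, Sylow.coe_subgroup_smul]
    constructor
    · rintro ⟨w, hw, hwz⟩
      exact ⟨w, hw, Subtype.ext hwz⟩
    · rintro ⟨w, hw, rfl⟩
      exact ⟨w, hw, rfl⟩
  have htransA : ∀ Q : Sylow p N, ∃ a ∈ A, a ∈ M ∧ ψ a P₀ = Q := by
    intro Q
    obtain ⟨z, hz, rfl⟩ := htransN Q
    obtain ⟨a, ha, haM, b, hb, rfl⟩ := hMAB z (hNM hz)
    refine ⟨a, ha, haM, ?_⟩
    rw [map_mul, Equiv.Perm.mul_apply, hψB b hb]
  -- the action is not faithful
  have hK0 : ψ.ker ≠ ⊥ := by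
    intro hbot
    have hinj : Function.Injective ψ := (MonoidHom.ker_eq_bot_iff ψ).1 hbot
    refine hMtop (eq_top_iff.2 fun g _ => ?_)
    obtain ⟨a, ha, b, hb, rfl⟩ := h.prod g
    refine mul_mem ?_ (hBM.le hb)
    obtain ⟨a', ha', ha'M, he'⟩ := htransA (ψ a P₀)
    suffices a'⁻¹ * a = 1 by
      rw [inv_mul_eq_one] at this
      exact this ▸ ha'M
    apply hinj
    rw [map_one]
    refine Equiv.ext fun Q => ?_
    obtain ⟨c, hc, -, rfl⟩ := htransA Q
    have hcm : (a'⁻¹ * a) * c = c * (a'⁻¹ * a) := congrArg Subtype.val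
      ((IsCyclic.commGroup (α := A)).mul_comm ⟨a'⁻¹ * a, mul_mem (inv_mem ha') ha⟩ ⟨c, hc⟩)
    rw [← Equiv.Perm.mul_apply, ← map_mul, hcm, map_mul, map_mul, map_inv, Equiv.Perm.mul_apply,
      Equiv.Perm.mul_apply, ← he', Equiv.Perm.inv_def, Equiv.symm_apply_apply, Equiv.Perm.one_apply]
  -- the kernel meets `N` trivially
  have hKN : ψ.ker ⊓ N = ⊥ := by
    by_contra hne
    obtain ⟨hZn, hZns⟩ := hYK (ψ.ker ⊓ N) inferInstance inf_le_right hne
    obtain ⟨hZidx, -, -⟩ := hS.normal_sub _ hZn hZns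
    have hp : p ∣ Nat.card ↥(((ψ.ker ⊓ N).subgroupOf N).map e) := by
      refine Nat.dvd_of_factorization_pos ?_
      rw [hfacQ _ hZidx]
      exact one_ne_zero
    rw [Subgroup.card_map_of_injective he] at hp
    obtain ⟨z, hz⟩ := exists_prime_orderOf_dvd_card' p hp
    have hz' : orderOf (z : N) = p := by rw [Subgroup.orderOf_coe, hz]
    have hzK : ((z : N) : G) ∈ ψ.ker := z.2.1
    have hall : ∀ Q : Sylow p N, (Q : Subgroup N) = Subgroup.zpowers (z : N) := by
      intro Q
      have hpg : IsPGroup p ↥(Subgroup.zpowers (z : N)) :=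
        IsPGroup.of_card (n := 1) (by rw [Nat.card_zpowers, hz', pow_one])
      have hnz : Subgroup.zpowers (z : N) ≤ Subgroup.normalizer (Q : Set N) := by
        rw [Subgroup.zpowers_le, show (Q : Set N) = ((Q : Subgroup N) : Set N) from rfl,
          Subgroup.mem_normalizer_iff]
        intro w
        have h1 : ψ ((z : N) : G) Q = Q := by rw [MonoidHom.mem_ker.1 hzK]; rfl
        constructor
        · intro hw
          have h3 : (z : N) * w * (z : N)⁻¹ ∈ ((ψ ((z : N) : G) Q : Sylow p N) : Subgroup N) :=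
            (mem_sylHom_smul ((z : N) : G) Q ((z : N) * w * (z : N)⁻¹)).2 ⟨w, hw, by simp⟩
          rwa [h1] at h3
        · intro hw
          rw [← h1] at hw
          obtain ⟨v, hv, hv'⟩ := (mem_sylHom_smul _ _ _).1 hw
          have e1 : v = w := by
            apply Subtype.ext
            simpa [Subgroup.coe_mul, InvMemClass.coe_inv] using hv'
          exact e1 ▸ hv
      have hle : Subgroup.zpowers (z : N) ≤ (Q : Subgroup N) := by
        have h1 := hpg.inf_normalizer_sylow Q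
        rw [inf_of_le_left hnz] at h1
        exact inf_eq_left.1 h1.symm
      refine (Subgroup.eq_of_le_of_card_ge hle ?_).symm
      rw [Sylow.card_eq_multiplicity, Nat.card_zpowers, hz', hcardN, hfacQ Y hYidx, pow_one]
    haveI : Subsingleton (Sylow p N) := ⟨fun Q Q' => Sylow.ext ((hall Q).trans (hall Q').symm)⟩
    have := Finite.card_le_one_iff_subsingleton.2 ‹Subsingleton (Sylow p N)›
    rw [hsylN] at this
    have := hS.five
    omega
  -- the first quotient
  set X₁ : Subgroup (Equiv.Perm (Sylow p N)) := ψ.range with hX₁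
  set ψ₁ : G →* X₁ := ψ.rangeRestrict with hψ₁
  have hψ₁app : ∀ (g : G) (Q : Sylow p N), ψ₁ g • Q = ψ g Q := fun g Q => rfl
  set A₁ : Subgroup X₁ := A.map ψ₁ with hA₁
  set B₁ : Subgroup X₁ := B.map ψ₁ with hB₁
  haveI hA₁c : IsCyclic A₁ := isCyclic_of_surjective (ψ₁.subgroupMap A) (ψ₁.subgroupMap_surjective _)
  haveI hB₁z : IsZGroup B₁ := IsZGroup.of_surjective (ψ₁.subgroupMap_surjective B)
  haveI hfaith : FaithfulSMul X₁ (Sylow p N) :=
    ⟨fun {g g'} e => Subtype.ext (Equiv.ext e)⟩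
  have htransA₁ : ∀ Q Q' : Sylow p N, ∃ a ∈ A₁, a • Q = Q' := by
    intro Q Q'
    obtain ⟨a, ha, -, rfl⟩ := htransA Q
    obtain ⟨a', ha', -, rfl⟩ := htransA Q'
    refine ⟨ψ₁ (a' * a⁻¹), Subgroup.mem_map_of_mem _ (mul_mem ha' (inv_mem ha)), ?_⟩
    rw [hψ₁app, map_mul, map_inv, Equiv.Perm.mul_apply, Equiv.Perm.inv_def, Equiv.symm_apply_apply]
  haveI : Nonempty (Sylow p N) := ⟨P₀⟩
  haveI : IsPretransitive X₁ (Sylow p N) := ⟨fun Q Q' => by
    obtain ⟨a, -, h1⟩ := htransA₁ Q Q'; exact ⟨a, h1⟩⟩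
  obtain ⟨hcardA₁, a₁, ha₁, hsemi₁⟩ :=
    exists_semi hA₁c htransA₁ (eq_one_of_fix hA₁c htransA₁)
  have hstab : stabilizer X₁ P₀ = B₁ := by
    apply le_antisymm
    · intro x hx
      obtain ⟨g, rfl⟩ := ψ.rangeRestrict_surjective x
      obtain ⟨a, ha, b, hb, rfl⟩ := h.prod g
      rw [← hψ₁, map_mul]
      have h1 : ψ₁ a • P₀ = P₀ := by
        rw [← hψ₁, mem_stabilizer_iff, map_mul, mul_smul, hψ₁app b, hψB b hb] at hx
        exact hx
      rw [eq_one_of_fix hA₁c htransA₁ _ (Subgroup.mem_map_of_mem _ ha) P₀ h1, one_mul]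
      exact Subgroup.mem_map_of_mem _ hb
    · rintro _ ⟨b, hb, rfl⟩
      exact hψB b hb
  have hP₀card : Nat.card (P₀ : Subgroup N) = p := by
    rw [Sylow.card_eq_multiplicity, hcardN, hfacQ Y hYidx, pow_one]
  obtain ⟨z, hzP, hz1⟩ := (P₀ : Subgroup N).bot_or_exists_ne_one.resolve_left fun e => by
    rw [e, Subgroup.card_bot] at hP₀card
    exact hS.prime.one_lt.ne hP₀card
  have hzgen : Subgroup.zpowers z = (P₀ : Subgroup N) := by
    refine Subgroup.eq_of_le_of_card_ge (Subgroup.zpowers_le.2 hzP) ?_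
    rw [hP₀card, Nat.card_zpowers]
    have hdvd : orderOf z ∣ p := by
      rw [← hP₀card, ← Nat.card_zpowers]
      exact Subgroup.card_dvd_of_le (Subgroup.zpowers_le.2 hzP)
    rcases (Nat.dvd_prime hS.prime).1 hdvd with h1 | h1
    · exact absurd (orderOf_eq_one_iff.1 h1) hz1
    · exact h1.ge
  have hzord : orderOf z = p := by rw [← Nat.card_zpowers, hzgen, hP₀card]
  have hψz : ∀ (w : N) (Q : Sylow p N), ψ (w : G) Q = w • Q := by
    intro w Q
    refine Sylow.ext ?_
    ext v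
    rw [hψ, mem_sylHom_smul, Sylow.coe_subgroup_smul]
    constructor
    · rintro ⟨x, hx, hxv⟩
      exact ⟨x, hx, Subtype.ext hxv⟩
    · rintro ⟨x, hx, rfl⟩
      exact ⟨x, hx, rfl⟩
  -- `P₀` is transitive on the other Sylow subgroups
  have htwo : ∀ Q Q' : Sylow p N, Q ≠ P₀ → Q' ≠ P₀ →
      ∃ x : X₁, x • P₀ = P₀ ∧ x • Q = Q' := by
    intro Q Q' hQ hQ'
    have hfix : ∀ i : ℕ, z ^ i • Q = Q → z ^ i = 1 := by
      intro i hi
      by_contra hne
      apply hQ
      have hzi : Subgroup.zpowers (z ^ i) = (P₀ : Subgroup N) := by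
        refine Subgroup.eq_of_le_of_card_ge (Subgroup.zpowers_le.2 (pow_mem hzP i)) ?_
        rw [hP₀card, Nat.card_zpowers]
        rcases (Nat.dvd_prime hS.prime).1 (hzord ▸ orderOf_pow_dvd i) with h1 | h1
        · exact absurd (orderOf_eq_one_iff.1 h1) hne
        · exact h1.ge
      have hle : (P₀ : Subgroup N) ≤ Subgroup.normalizer (Q : Set N) := by
        rw [← hzi, Subgroup.zpowers_le]
        exact Sylow.smul_eq_iff_mem_normalizer.1 hi
      have h1 := P₀.2.inf_normalizer_sylow Q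
      rw [inf_of_le_left hle] at h1
      exact Sylow.ext (Subgroup.eq_of_le_of_card_ge (inf_eq_left.1 h1.symm)
        (by rw [Sylow.card_eq_multiplicity, Sylow.card_eq_multiplicity])).symm
    have hne0 : ∀ (i : ℕ), z ^ i • Q ≠ P₀ := fun i e => hQ (by
      have h1 : z ^ i • P₀ = P₀ := Sylow.smul_eq_iff_mem_normalizer.2
        (Subgroup.le_normalizer (pow_mem hzP i))
      exact smul_left_cancel (z ^ i) (e.trans h1.symm))
    let f : Fin p → {R : Sylow p N // R ≠ P₀} := fun i => ⟨z ^ (i : ℕ) • Q, hne0 i⟩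
    have hf : Function.Injective f := by
      intro i j e
      have e' : z ^ (i : ℕ) • Q = z ^ (j : ℕ) • Q := congrArg Subtype.val e
      apply Fin.ext
      rcases le_total (i : ℕ) (j : ℕ) with hle | hle
      · obtain ⟨r, hr⟩ := Nat.exists_eq_add_of_le hle
        rw [hr, pow_add, mul_smul] at e'
        have h3 := hfix r (smul_left_cancel _ e').symm
        have h4 := orderOf_dvd_of_pow_eq_one h3
        rw [hzord] at h4
        have := j.2
        rcases Nat.eq_zero_or_pos r with rfl | hr0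
        · omega
        · have := Nat.le_of_dvd hr0 h4
          omega
      · obtain ⟨r, hr⟩ := Nat.exists_eq_add_of_le hle
        rw [hr, pow_add, mul_smul] at e'
        have h3 := hfix r (smul_left_cancel _ e'.symm).symm
        have h4 := orderOf_dvd_of_pow_eq_one h3
        rw [hzord] at h4
        have := i.2
        rcases Nat.eq_zero_or_pos r with rfl | hr0
        · omega
        · have := Nat.le_of_dvd hr0 h4
          omega
    have hb : Function.Bijective f := (Nat.bijective_iff_injective_and_card _).2 ⟨hf, by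
      haveI := Fintype.ofFinite (Sylow p N)
      rw [Nat.card_fin, Nat.card_eq_fintype_card, Fintype.card_subtype_compl,
        Fintype.card_subtype_eq, ← Nat.card_eq_fintype_card, hsylN]
      omega⟩
    obtain ⟨i, hi⟩ := hb.2 ⟨Q', hQ'⟩
    refine ⟨ψ₁ ((z ^ (i : ℕ) : N) : G), ?_, ?_⟩
    · rw [hψ₁app, hψz]
      exact Sylow.smul_eq_iff_mem_normalizer.2 (Subgroup.le_normalizer (pow_mem hzP _))
    · rw [hψ₁app, hψz]
      exact congrArg Subtype.val hi
  have hctx : Ctx X₁ (Sylow p N) := by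
    refine ⟨hfaith, fun x y x' y' hxy hxy' => ?_, ?_, ?_, ?_, a₁, ha₁, hsemi₁⟩
    · obtain ⟨g, hg⟩ := exists_smul_eq X₁ x P₀
      obtain ⟨g', hg'⟩ := exists_smul_eq X₁ x' P₀
      obtain ⟨k, hk1, hk2⟩ := htwo (g • y) (g' • y')
        (fun e => hxy (smul_left_cancel g (hg.trans e.symm)))
        (fun e => hxy' (smul_left_cancel g' (hg'.trans e.symm)))
      exact ⟨g'⁻¹ * k * g, by rw [mul_smul, hg, mul_smul, hk1, ← hg', inv_smul_smul],
        by rw [mul_smul, mul_smul, hk2, inv_smul_smul]⟩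
    · rw [hsylN, Nat.even_add_one]
      intro he
      exact hp2 ((Nat.prime_dvd_prime_iff_eq Nat.prime_two hS.prime).1 (even_iff_two_dvd.1 he)).symm
    · rw [hsylN]; have := hS.five; omega
    · refine isZGroup_stabilizers (x₀ := P₀) ?_
      rw [hstab]; exact hB₁z
  have hψN : Function.Injective (ψ₁.comp N.subtype) := by
    rw [injective_iff_map_eq_one]
    intro w hw
    have h1 : ψ (w : G) = 1 := congrArg Subtype.val hw
    have h3 : (w : G) ∈ ψ.ker ⊓ N := ⟨MonoidHom.mem_ker.2 h1, w.2⟩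
    rw [hKN, Subgroup.mem_bot] at h3
    exact Subtype.ext h3
  have hX₁ns : ¬ Group.IsSolvable X₁ := fun hs => by
    haveI := hs
    exact hnsol N hNn hN1 (Group.isSolvable_of_isSolvable_injective hψN)
  obtain ⟨p', hS'⟩ := exists_shape hctx hX₁ns
  have hpp : p' = p := by
    have := hS'.cardΩ
    rw [hsylN] at this
    omega
  -- the counts
  have hX₁card : Nat.card X₁ = Nat.card A₁ * Nat.card B₁ := by
    rw [card_eq hctx P₀, hstab, hcardA₁]
  have hX₁le : Nat.card X₁ ≤ 2 * Nat.card N := by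
    rw [hS'.cardG, hpp, ← hS.cardG, hcardN, ← Y.card_mul_index, mul_comm 2]
    exact Nat.mul_le_mul_left _ hYidx
  set χ : G →* G ⧸ N := QuotientGroup.mk' N with hχ
  set A₂ : Subgroup (G ⧸ N) := A.map χ with hA₂
  set B₂ : Subgroup (G ⧸ N) := B.map χ with hB₂
  haveI hA₂c : IsCyclic A₂ := isCyclic_of_surjective (χ.subgroupMap A) (χ.subgroupMap_surjective _)
  haveI hB₂z : IsZGroup B₂ := IsZGroup.of_surjective (χ.subgroupMap_surjective B)
  have hdisj₂ : A₂ ⊓ B₂ = ⊥ := by
    rw [eq_bot_iff]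
    intro x hx
    obtain ⟨⟨a, ha, rfl⟩, ⟨b, hb, hab⟩⟩ := Subgroup.mem_inf.1 hx
    have h1 : b⁻¹ * a ∈ N := QuotientGroup.eq.1 hab
    have haM : a ∈ M := by simpa using mul_mem (hBM.le hb) (hNM h1)
    exact Subgroup.mem_bot.2 ((QuotientGroup.eq_one_iff a).2 (hAM a ha haM))
  have hprod₂ : ∀ q : G ⧸ N, ∃ a ∈ A₂, ∃ b ∈ B₂, q = a * b := by
    intro q
    obtain ⟨g, rfl⟩ := QuotientGroup.mk_surjective q
    obtain ⟨a, ha, b, hb, rfl⟩ := h.prod g
    exact ⟨χ a, Subgroup.mem_map_of_mem _ ha, χ b, Subgroup.mem_map_of_mem _ hb, map_mul χ a b⟩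
  have hX₂ns : ¬ Group.IsSolvable (G ⧸ N) := fun hs => by
    haveI := hs
    refine hnsol ψ.ker inferInstance hK0 (Group.isSolvable_of_isSolvable_injective
      (f := χ.comp ψ.ker.subtype) ?_)
    rw [injective_iff_map_eq_one]
    intro w hw
    have h3 : (w : G) ∈ ψ.ker ⊓ N := ⟨w.2, (QuotientGroup.eq_one_iff _).1 hw⟩
    rw [hKN, Subgroup.mem_bot] at h3
    exact Subtype.ext h3
  obtain ⟨hA₂e, hB₂e⟩ := even_factors hX₂ns hprod₂ hdisj₂
  have hA₁e : 2 ∣ Nat.card A₁ := by
    rw [hcardA₁]; exact even_iff_two_dvd.1 hctx.even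
  have hB₁e : 2 ∣ Nat.card B₁ := by
    rw [← hstab]
    exact two_dvd_stabilizer hctx (two_lt hctx hX₁ns) P₀
  have hinjK : ∀ (K : Subgroup G) (x : K), ψ₁.subgroupMap K x = 1 → χ.subgroupMap K x = 1 →
      x = 1 := by
    intro K x h1 h2
    have e1 : ψ (x : G) = 1 := congrArg (fun y : ↥(K.map ψ₁) => ((y : X₁) : Equiv.Perm (Sylow p N))) h1
    have e2 : χ (x : G) = 1 := congrArg (fun y : ↥(K.map χ) => (y : G ⧸ N)) h2
    have h3 : (x : G) ∈ ψ.ker ⊓ N :=
      ⟨MonoidHom.mem_ker.2 e1, (QuotientGroup.eq_one_iff _).1 e2⟩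
    rw [hKN, Subgroup.mem_bot] at h3
    exact Subtype.ext h3
  have hA12 := two_mul_card_le (ψ₁.subgroupMap A) (χ.subgroupMap A) (hinjK A) hA₁e hA₂e
  have hB12 := two_mul_card_le (ψ₁.subgroupMap B) (χ.subgroupMap B) (hinjK B) hB₁e hB₂e
  have hG : Nat.card G = Nat.card A * Nat.card B := card_prod_eq h.prod h.disj
  have hGN : Nat.card (G ⧸ N) = Nat.card A₂ * Nat.card B₂ := card_prod_eq hprod₂ hdisj₂
  have hGN' : Nat.card G = Nat.card (G ⧸ N) * Nat.card N := N.card_eq_card_quotient_mul_card_subgroup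
  have k1 := Nat.mul_le_mul hA12 hB12
  have k2 : Nat.card X₁ * Nat.card (G ⧸ N) ≤ 2 * Nat.card G := by
    rw [hGN']
    calc Nat.card X₁ * Nat.card (G ⧸ N) ≤ 2 * Nat.card N * Nat.card (G ⧸ N) :=
          Nat.mul_le_mul_right _ hX₁le
      _ = 2 * (Nat.card (G ⧸ N) * Nat.card N) := by ring
  rw [hX₁card, hGN] at k2
  have k3 : 4 * Nat.card G ≤ 2 * Nat.card G := by
    calc 4 * Nat.card G = 2 * Nat.card A * (2 * Nat.card B) := by rw [hG]; ring
      _ ≤ _ := k1
      _ = Nat.card A₁ * Nat.card B₁ * (Nat.card A₂ * Nat.card B₂) := by ring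
      _ ≤ 2 * Nat.card G := k2
  have := Nat.card_pos (α := G)
  omega

/-- The coset action of `B` is the projective line. -/
theorem main {G : Type u} [Group G] [Finite G] (A B : Subgroup G) (h : Fac A B) :
    ∃ p, Shape G (G ⧸ B) p :=
  main_aux _ A B h rfl

end CfsgLib.CycZ75
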